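import Groth.Agent.Dix.K832.CmpIso
import Groth.Agent.Dix.K282.Assemble

/-!
# Change of base field for the kernel sheaves `KK ε`

`main`: `L/k` algebraic separable, `ε : A →ₐ[k] k`, `y ∈ H^n(k, KK ε)` dying in `H^n(Spec A, G_m)`; if
`H^n(L, f_{L*} G_m) ⟶ H^n(Spec (L ⊗ A), G_m)` is injective then `y` dies in `H^n(L, π⁻¹ KK ε)`.
-/

set_option autoImplicit false
universe u
open CategoryTheory CategoryTheory.Limits AlgebraicGeometry Opposite Abelian TensorProduct
open scoped Groth.Agent.Etcore.EtInst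
open Groth.Agent.Etcore.EtInst

namespace K832.Cmp

open Groth.Agent.Etcore Groth.Agent.Etcore.PullCoh Groth.Agent.Etcore.GmFun
open Groth.Agent.Etcore.HpullCalc Groth.Agent.Etcore.HC
open Groth.Agent.Lefpen.H365.FieldPts
open Groth.Agent.Dix.K282.PMap Groth.Agent.Dix.K282.AlgStk Groth.Agent.Dix.K282.Assemble
open K832.CmpBase K832.CmpIso

attribute [local instance] Groth.Agent.S0101.result

variable {k : Type u} [Field k] {A : Type u} [CommRing A] [Algebra k A]

variable (L : Type u) [Field L] [Algebra k L]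

/-- The projection `Spec (L ⊗ A) ⟶ Spec A`. -/
noncomputable abbrev pA (A : Type u) [CommRing A] [Algebra k A] :
    Spec (CommRingCat.of (L ⊗[k] A)) ⟶ Spec (CommRingCat.of A) :=
  Spec.map (CommRingCat.ofHom (Algebra.TensorProduct.includeRight : A →ₐ[k] L ⊗[k] A).toRingHom)

theorem isPullback_A : IsPullback (pA (k := k) L A) (sp L (L ⊗[k] A)) (sp k A) (xi k L) := by
  have h := isPullback_SpecMap_of_isPushout (CommRingCat.ofHom (algebraMap k L))
    (CommRingCat.ofHom (algebraMap k A))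
    (CommRingCat.ofHom (algebraMap L (L ⊗[k] A)))
    (CommRingCat.ofHom (Algebra.TensorProduct.includeRight : A →ₐ[k] L ⊗[k] A).toRingHom)
    (CommRingCat.isPushout_tensorProduct k L A)
  exact h.flip

theorem isPullback_k : IsPullback (xi k L) (sp L L) (sp k k) (xi k L) := by
  have h1 : sp L L = 𝟙 _ := Spec.map_id _
  have h2 : sp k k = 𝟙 _ := Spec.map_id _
  rw [h1, h2]
  exact IsPullback.of_vert_isIso ⟨by rw [Category.comp_id, Category.id_comp]⟩

/-- The base change of a point. -/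
noncomputable def epsL (ε : A →ₐ[k] k) : L ⊗[k] A →ₐ[L] L :=
  Algebra.TensorProduct.lift (AlgHom.id L L) ((Algebra.ofId k L).comp ε) (fun _ _ => Commute.all _ _)

theorem sm_epsL (ε : A →ₐ[k] k) : sm (epsL L ε) ≫ pA L A = xi k L ≫ sm ε := by
  change Spec.map _ ≫ Spec.map _ = Spec.map _ ≫ Spec.map _
  rw [← Spec.map_comp, ← Spec.map_comp, ← CommRingCat.ofHom_comp, ← CommRingCat.ofHom_comp]
  congr 2
  ext a
  change epsL L ε (1 ⊗ₜ a) = algebraMap k L (ε a)
  rw [epsL, Algebra.TensorProduct.lift_tmul, map_one, one_mul]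
  rfl

/-- Naturality of `bt` for the point. -/
theorem bt_eps (ε : A →ₐ[k] k) :
    (EtCoh.pull (xi k L)).map (Pmap (sm ε) (sp k A) (sp k k) (sm_sp ε)) ≫ bt (isPullback_k (k := k) L).w =
      bt (isPullback_A (A := A) (k := k) L).w ≫
        Pmap (sm (epsL L ε)) (sp L (L ⊗[k] A)) (sp L L) (sm_sp (epsL L ε)) :=
  bt_nat _ _ _ _ _ _ (sm_epsL L ε)

/-- The comparison `π⁻¹ KK ε ⟶ KK ε_L`. -/
noncomputable def be (ε : A →ₐ[k] k) : (EtCoh.pull (xi k L)).obj (KK ε) ⟶ KK (epsL L ε) :=
  kernelComparison (Pmap (sm ε) (sp k A) (sp k k) (sm_sp ε)) (EtCoh.pull (xi k L)) ≫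
    kernel.map _ _ (bt (isPullback_A (A := A) (k := k) L).w) (bt (isPullback_k (k := k) L).w) (bt_eps L ε)

theorem be_ι (ε : A →ₐ[k] k) : be L ε ≫ kernel.ι _ =
    (EtCoh.pull (xi k L)).map (kernel.ι _) ≫ bt (isPullback_A (A := A) (k := k) L).w := by
  rw [be, Category.assoc, kernel.lift_ι, ← Category.assoc, kernelComparison_comp_ι]

theorem isIso_be [Algebra.IsSeparable k L] (ε : A →ₐ[k] k) : IsIso (be L ε) := by
  have h1 : IsIso (bt (isPullback_A (A := A) (k := k) L).w) :=
    isIso_bt (isPullback_A (A := A) (k := k) L)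
  have h2 : IsIso (bt (isPullback_k (k := k) L).w) := isIso_bt (isPullback_k (k := k) L)
  have h3 : IsIso (kernel.map _ _ (bt (isPullback_A (A := A) (k := k) L).w)
    (bt (isPullback_k (k := k) L).w) (bt_eps L ε)) := inferInstance
  have h4 : IsIso (kernelComparison (Pmap (sm ε) (sp k A) (sp k k) (sm_sp ε)) (EtCoh.pull (xi k L))) :=
    inferInstance
  rw [be]
  infer_instance

/-- **Change of base field for the kernel sheaves.** -/
theorem main [Algebra.IsSeparable k L] (ε : A →ₐ[k] k) (n : ℕ) (y : HH _ (KK ε) n)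
    (hy : eH (sp k A) (EtCoh.Gm (Spec (CommRingCat.of A))) n (HHmap (kernel.ι _) n y) = 0)
    (hinj : Function.Injective
      (eH (sp L (L ⊗[k] A)) (EtCoh.Gm (Spec (CommRingCat.of (L ⊗[k] A)))) n)) :
    hp (Spec.map (CommRingCat.ofHom (algebraMap k L))) (KK ε) n y = 0 := by
  have hiso := isIso_be L ε
  apply (HHmap_bijective (be L ε) n).1
  rw [map_zero]
  apply map_ker_injective _ _ (Pmap_split (epsL L ε) (Algebra.ofId L (L ⊗[k] A)) (Subsingleton.elim _ _)) n
  apply hinj
  rw [map_zero, map_zero, ← HHmap_comp, be_ι, HHmap_comp, ← hp_map]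
  exact (eH_bt _ n _).trans (by rw [hy, map_zero])

end K832.Cmp
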