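import Groth.Agent.Dix.K282.PMap
import Groth.Agent.EtpbcB.BCCalc

/-!
# The sheaves `f_* G_m` and change of base

For a commutative square `g ≫ f = f' ≫ π` the morphism `bt : π⁻¹ f_* G_m ⟶ f'_* G_m` (base change followed by the
functoriality of `G_m`), its compatibility with the edge maps and with restriction along morphisms of squares.
-/

set_option autoImplicit false
universe u
open CategoryTheory CategoryTheory.Limits AlgebraicGeometry Opposite Abelian
open scoped Groth.Agent.Etcore.EtInst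
open Groth.Agent.Etcore.EtInst

namespace K832.CmpBase

open Groth.Agent.Etcore Groth.Agent.Etcore.HpullCalc Groth.Agent.Etcore.HC
open Groth.Agent.Etcore.PullCoh Groth.Agent.Etcore.GmFun
open Groth.Agent.CurvesA.MuConst (unitOf ofUnit)
open Groth.Agent.Dix.K282.PMap

attribute [local instance] Groth.Agent.S0101.result

variable {X X' Y Y' : Scheme.{u}} {f : X ⟶ Y} {π : Y' ⟶ Y} {f' : X' ⟶ Y'} {g : X' ⟶ X}

/-- The morphism `π⁻¹ f_* G_m ⟶ f'_* G_m`. -/
noncomputable def bt (w : g ≫ f = f' ≫ π) : (EtCoh.pull π).obj (P f) ⟶ P f' :=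
  EtCoh.baseChange0 f π f' g w (EtCoh.Gm X) ≫ (EtCoh.push f').map (gmp g)

/-- The isomorphism of étale schemes behind `bt`. -/
theorem bt_eta (w : g ≫ f = f' ≫ π) (U : Y.Etale) (s : EtCoh.sect (P f) U) :
    (bt w).hom.app (op ((EtCoh.bc π).obj U)) (eta π (P f) U s) =
      (EtCoh.Gm X').obj.map (Groth.Agent.EtpbcB.BCCalc.theta w U).hom.op
        ((gmUnit g).hom.app (op ((EtCoh.bc f).obj U)) s) := by
  have h1 := congrArg (fun k => k.hom.app (op U) s) (Groth.Agent.EtpbcB.BCCalc.unit_baseChange0 w (EtCoh.Gm X))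
  have h2 : (EtCoh.baseChange0 f π f' g w (EtCoh.Gm X)).hom.app (op ((EtCoh.bc π).obj U))
      (eta π (P f) U s) =
      ((EtCoh.pull g).obj (EtCoh.Gm X)).obj.map (Groth.Agent.EtpbcB.BCCalc.theta w U).hom.op
        (eta g (EtCoh.Gm X) ((EtCoh.bc f).obj U) s) := by
    refine h1.trans ?_
    have h3 := Groth.Agent.EtpbcB.BCCalc.sq_hom_app_app w ((EtCoh.pull g).obj (EtCoh.Gm X)) U
    exact congrArg (fun k => k (eta g (EtCoh.Gm X) ((EtCoh.bc f).obj U) s)) (congrArg (fun k => k.hom) h3)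
  have h4 : (bt w).hom.app (op ((EtCoh.bc π).obj U)) (eta π (P f) U s) =
      (gmp g).hom.app (op ((EtCoh.bc f').obj ((EtCoh.bc π).obj U)))
        ((EtCoh.baseChange0 f π f' g w (EtCoh.Gm X)).hom.app (op ((EtCoh.bc π).obj U))
      (eta π (P f) U s)) := rfl
  rw [h4, h2, map_res]
  exact congrArg ((EtCoh.Gm X').obj.map (Groth.Agent.EtpbcB.BCCalc.theta w U).hom.op)
    (gmp_eta g ((EtCoh.bc f).obj U) s)

theorem theta_bcComp (w : g ≫ f = f' ≫ π) (q : X' ⟶ Y) (w₁ : f' ≫ π = q) (w₂ : g ≫ f = q) (U : Y.Etale) :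
    (Groth.Agent.EtpbcB.BCCalc.theta w U).hom ≫ bcComp g f q w₂ U = bcComp f' π q w₁ U := by
  refine hom_bc_ext _ _ _ ?_
  have h := Groth.Agent.EtpbcB.BCCalc.theta_hom_left_pr w U
  have h2 := bcComp_left_fst g f q w₂ U
  have h3 := bcComp_left_fst f' π q w₁ U
  refine Eq.trans ?_ h3.symm
  refine Eq.trans ?_ h
  refine (Category.assoc _ _ _).trans ?_
  exact congrArg (fun k => (Groth.Agent.EtpbcB.BCCalc.theta w U).hom.left ≫ k) h2

/-- `bt` and the morphisms `Lmap`. -/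
theorem th_Lmap_bt (w : g ≫ f = f' ≫ π) (q : X' ⟶ Y) (w₁ : f' ≫ π = q) (w₂ : g ≫ f = q) :
    th f' π q w₁ (P f) ≫ Lmap g f q w₂ =
      (EtCoh.pull f').map (bt w) ≫ (EtCoh.pullPushAdj f').counit.app (EtCoh.Gm X') := by
  refine pull_hom_ext₂ f' π _ _ fun U s => ?_
  rw [map_comp_app, map_comp_app, th_unit, map_res, eta_map]
  refine Eq.trans ?_ (counit_eta f' (EtCoh.Gm X') ((EtCoh.bc π).obj U) _).symm
  rw [bt_eta]
  have h1 : (gmUnit g).hom.app (op ((EtCoh.bc f).obj U)) s =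
      (EtCoh.Gm X').obj.map (bcComp g f q w₂ U).op
        ((Lmap g f q w₂).hom.app (op ((EtCoh.bc q).obj U)) (eta q (P f) U s)) := by
    rw [← map_res, ← th_unit, ← map_comp_app, th_Lmap, map_comp_app]
    refine Eq.symm ?_
    refine (congrArg ((gmp g).hom.app _) (eta_map g ((EtCoh.pullPushAdj f).counit.app (EtCoh.Gm X))
      ((EtCoh.bc f).obj U) (eta f (P f) U s))).trans ?_
    refine (congrArg (fun t => (gmp g).hom.app _ (eta g (EtCoh.Gm X) ((EtCoh.bc f).obj U) t))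
      (counit_eta f (EtCoh.Gm X) U s)).trans ?_
    exact gmp_eta g ((EtCoh.bc f).obj U) s
  rw [h1, ← res_comp, theta_bcComp w q w₁ w₂ U]

/-- `bt` is compatible with the edge maps. -/
theorem eH_bt (w : g ≫ f = f' ≫ π) (n : ℕ) (x : HH Y (P f) n) :
    eH f' (EtCoh.Gm X') n (HHmap (bt w) n (hp π (P f) n x)) = HG g n (eH f (EtCoh.Gm X) n x) := by
  have h1 : hpl π (𝟙 _) n x = hp π (P f) n x := by rw [hpl_apply, HHmap_id]
  rw [eH, hpl_map, HG, eH, ← h1, ← th_Lmap_bt w (g ≫ f) w.symm rfl]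
  rw [hpl_hpl f' π (g ≫ f) w.symm (𝟙 _) _ (Lmap g f (g ≫ f) rfl)
    (by rw [CategoryTheory.Functor.map_id, Category.id_comp])]
  exact (hpl_hpl g f (g ≫ f) rfl _ _ _ (th_Lmap g f (g ≫ f) rfl) n x).symm

/-- The morphism of schemes behind `bt`. -/
noncomputable def kp (w : g ≫ f = f' ≫ π) (U : Y.Etale) :
    ((EtCoh.bc f').obj ((EtCoh.bc π).obj U)).left ⟶ ((EtCoh.bc f).obj U).left :=
  (Groth.Agent.EtpbcB.BCCalc.theta w U).hom.left ≫ bcFst g ((EtCoh.bc f).obj U)

theorem kp_fst (w : g ≫ f = f' ≫ π) (U : Y.Etale) :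
    kp w U ≫ pullback.fst U.hom f = bcFst f' ((EtCoh.bc π).obj U) ≫ pullback.fst U.hom π :=
  (Category.assoc _ _ _).trans (Groth.Agent.EtpbcB.BCCalc.theta_hom_left_pr w U)

theorem kp_snd (w : g ≫ f = f' ≫ π) (U : Y.Etale) :
    kp w U ≫ pullback.snd U.hom f = pullback.snd (pullback.snd U.hom π) f' ≫ g := by
  have h1 : bcFst g ((EtCoh.bc f).obj U) ≫ pullback.snd U.hom f =
      pullback.snd (pullback.snd U.hom f) g ≫ g := pullback.condition
  have h2 : (Groth.Agent.EtpbcB.BCCalc.theta w U).hom.left ≫ pullback.snd (pullback.snd U.hom f) g =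
      pullback.snd (pullback.snd U.hom π) f' :=
    MorphismProperty.Over.w (Groth.Agent.EtpbcB.BCCalc.theta w U).hom
  refine (Category.assoc _ _ _).trans ?_
  refine (congrArg (fun k => (Groth.Agent.EtpbcB.BCCalc.theta w U).hom.left ≫ k) h1).trans ?_
  refine (Category.assoc _ _ _).symm.trans ?_
  exact congrArg (fun k => k ≫ g) h2

theorem unitOf_bt (w : g ≫ f = f' ≫ π) (U : Y.Etale) (s : EtCoh.sect (P f) U) :
    ((unitOf (X := X') (U := (EtCoh.bc f').obj ((EtCoh.bc π).obj U))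
        ((bt w).hom.app (op ((EtCoh.bc π).obj U)) (eta π (P f) U s)) :
        (Γ(((EtCoh.bc f').obj ((EtCoh.bc π).obj U)).left, ⊤))ˣ) :
        Γ(((EtCoh.bc f').obj ((EtCoh.bc π).obj U)).left, ⊤)) =
      (kp w U).appTop.hom
        (unitOf (X := X) (U := (EtCoh.bc f).obj U) s : Γ(((EtCoh.bc f).obj U).left, ⊤)) := by
  have h1 := congrArg (fun t => ((unitOf (X := X') (U := (EtCoh.bc f').obj ((EtCoh.bc π).obj U)) t :
    (Γ(((EtCoh.bc f').obj ((EtCoh.bc π).obj U)).left, ⊤))ˣ) :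
      Γ(((EtCoh.bc f').obj ((EtCoh.bc π).obj U)).left, ⊤))) (bt_eta w U s)
  refine h1.trans ?_
  have h4 : (kp w U).appTop =
      (bcFst g ((EtCoh.bc f).obj U)).appTop ≫ (Groth.Agent.EtpbcB.BCCalc.theta w U).hom.left.appTop :=
    Scheme.Hom.comp_appTop _ _
  rw [h4]
  rfl

section Nat

variable {Z Z' : Scheme.{u}} {e : Z ⟶ Y} {e' : Z' ⟶ Y'} {h : Z' ⟶ Z}

/-- `bt` is natural for morphisms of squares. -/
theorem bt_nat (w : g ≫ f = f' ≫ π) (v : h ≫ e = e' ≫ π) (a : Z ⟶ X) (a' : Z' ⟶ X')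
    (ha : a ≫ f = e) (ha' : a' ≫ f' = e') (haa : a' ≫ g = h ≫ a) :
    (EtCoh.pull π).map (Pmap a f e ha) ≫ bt v = bt w ≫ Pmap a' f' e' ha' := by
  refine pull_hom_ext π _ _ fun U s => ?_
  apply Groth.Agent.CurvesA.MuConst.unitOf_injective (X := Z')
    (U := (EtCoh.bc e').obj ((EtCoh.bc π).obj U))
  apply Units.ext
  have h1 : ((EtCoh.pull π).map (Pmap a f e ha) ≫ bt v).hom.app (op ((EtCoh.bc π).obj U))
      (eta π (P f) U s) = (bt v).hom.app (op ((EtCoh.bc π).obj U))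
        (eta π (P e) U ((Pmap a f e ha).hom.app (op U) s)) := by
    rw [map_comp_app, eta_map]
  have h2 : (bt w ≫ Pmap a' f' e' ha').hom.app (op ((EtCoh.bc π).obj U)) (eta π (P f) U s) =
      (Pmap a' f' e' ha').hom.app (op ((EtCoh.bc π).obj U))
        ((bt w).hom.app (op ((EtCoh.bc π).obj U)) (eta π (P f) U s)) := rfl
  rw [h1, h2]
  refine (unitOf_bt v U _).trans ?_
  refine Eq.trans ?_ (unitOf_Pmap a' f' e' ha' ((EtCoh.bc π).obj U) _).symm
  refine (congrArg _ (unitOf_Pmap a f e ha U s)).trans ?_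
  refine Eq.trans ?_ (congrArg _ (unitOf_bt w U s)).symm
  have h5 : kp v U ≫ bcj a f e ha U = bcj a' f' e' ha' ((EtCoh.bc π).obj U) ≫ kp w U := by
    apply pullback.hom_ext
    · refine (Category.assoc _ _ _).trans ?_
      refine (congrArg (fun k => kp v U ≫ k) (bcj_fst a f e ha U)).trans ?_
      refine (kp_fst v U).trans ?_
      refine Eq.trans ?_ (Category.assoc _ _ _).symm
      refine Eq.trans ?_ (congrArg (fun k => bcj a' f' e' ha' ((EtCoh.bc π).obj U) ≫ k) (kp_fst w U)).symm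
      refine Eq.trans ?_ (Category.assoc _ _ _)
      exact (congrArg (fun k => k ≫ pullback.fst U.hom π)
        (bcj_fst a' f' e' ha' ((EtCoh.bc π).obj U))).symm
    · refine (Category.assoc _ _ _).trans ?_
      refine (congrArg (fun k => kp v U ≫ k) (bcj_snd a f e ha U)).trans ?_
      refine (Category.assoc _ _ _).symm.trans ?_
      refine (congrArg (fun k => k ≫ a) (kp_snd v U)).trans ?_
      refine Eq.trans ?_ (Category.assoc _ _ _).symm
      refine Eq.trans ?_ (congrArg (fun k => bcj a' f' e' ha' ((EtCoh.bc π).obj U) ≫ k) (kp_snd w U)).symm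
      refine Eq.trans ?_ (Category.assoc _ _ _)
      refine Eq.trans ?_ (congrArg (fun k => k ≫ g) (bcj_snd a' f' e' ha' ((EtCoh.bc π).obj U))).symm
      refine (Category.assoc _ _ _).trans ?_
      refine Eq.trans ?_ (Category.assoc _ _ _).symm
      exact congrArg (fun k => pullback.snd (pullback.snd U.hom π) e' ≫ k) haa.symm
  have h6 := congrArg (fun k => k.appTop.hom
    (unitOf (X := X) (U := (EtCoh.bc f).obj U) s : Γ(((EtCoh.bc f).obj U).left, ⊤))) h5
  have h7 : (kp v U ≫ bcj a f e ha U).appTop = (bcj a f e ha U).appTop ≫ (kp v U).appTop :=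
    Scheme.Hom.comp_appTop _ _
  have h8 : (bcj a' f' e' ha' ((EtCoh.bc π).obj U) ≫ kp w U).appTop =
      (kp w U).appTop ≫ (bcj a' f' e' ha' ((EtCoh.bc π).obj U)).appTop := Scheme.Hom.comp_appTop _ _
  simp only [h7, h8] at h6
  exact h6

end Nat

end K832.CmpBase
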