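import Groth.Agent.Dix.K832.CmpBase
import Groth.Agent.Dix.K282.BrLift
import Groth.Agent.Sga4h.NcLimEt

/-!
# `π⁻¹ f_* G_m ≅ f'_* G_m` for an algebraic separable extension of the base field
-/

set_option autoImplicit false
universe u
open CategoryTheory CategoryTheory.Limits AlgebraicGeometry Opposite Abelian

namespace K832.CmpIso

open Groth.Agent.Etcore Groth.Agent.Etcore.PullCoh Groth.Agent.Etcore.GmFun
open Groth.Agent.Lefpen.H365.FieldPts
open Groth.Agent.Dix.K282.PMap K832.CmpBase

variable {K L : Type u} [Field K] [Field L] [Algebra K L] [Algebra.IsSeparable K L]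
  {X X' : Scheme.{u}} {f : X ⟶ Spec (CommRingCat.of K)} {f' : X' ⟶ Spec (CommRingCat.of L)} {g : X' ⟶ X}

variable (K L) in
/-- The diagram of the finite subextensions over `Spec K`. -/
noncomputable def DD : (FinSub K L)ᵒᵖ ⥤ Over (Spec (CommRingCat.of K)) where
  obj a := Over.mk (str K L a)
  map h := Over.homMk ((PullbackLim.specSys (sysF K L)).map h) (str_map K L h)
  map_id a := by
    apply Over.OverMorphism.ext
    exact (PullbackLim.specSys (sysF K L)).map_id a
  map_comp h h' := by
    apply Over.OverMorphism.ext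
    exact (PullbackLim.specSys (sysF K L)).map_comp h h'

theorem etale_str (a : (FinSub K L)ᵒᵖ) : Etale (str K L a) := (VL K L a.unop).prop

/-- Degree zero base change along `Spec L ⟶ Spec K`. -/
theorem isIso_bc0 [QuasiCompact f] [QuasiSeparated f] (hsq : IsPullback g f' f (xi K L)) (F : EtCoh.Ab X) :
    IsIso (EtCoh.baseChange0 f (xi K L) f' g hsq.w F) :=
  Groth.Agent.Sga4h.NcLimEt.isIso_baseChange0_of_limit_etale (DD K L) (fun a => etale_str a)
    (fun _ _ h => PullbackLim.isAffineHom_specSys _ h)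
    (PullbackLim.specCone (sysF K L) (coconeF K L)) (limF K L) (xi K L) (str_cone K L) f f' g hsq F

/-- `g⁻¹ G_m ⟶ G_m` is an isomorphism for `g : X_L ⟶ X`. -/
theorem isIso_gmp (hsq : IsPullback g f' f (xi K L)) : IsIso (gmp g) := by
  have h1 : IsIso (gmp (pullback.fst f (xi K L))) := Groth.Agent.Dix.K282.BrLift.isIso_gmp_fst f
  have h2 : hsq.isoPullback.hom ≫ pullback.fst f (xi K L) = g := hsq.isoPullback_hom_fst
  have h3 : IsIso (gmp hsq.isoPullback.hom) := Groth.Agent.Dix.K282.GmIso.isIso_gmp_etale _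
  have h4 := gmp_comp hsq.isoPullback.hom (pullback.fst f (xi K L)) g h2
  have h5 : IsIso (th hsq.isoPullback.hom (pullback.fst f (xi K L)) g h2 (EtCoh.Gm X) ≫ gmp g) := by
    rw [h4]; infer_instance
  exact IsIso.of_isIso_comp_left (th hsq.isoPullback.hom (pullback.fst f (xi K L)) g h2 (EtCoh.Gm X)) _

/-- `bt` is an isomorphism. -/
theorem isIso_bt [QuasiCompact f] [QuasiSeparated f] (hsq : IsPullback g f' f (xi K L)) :
    IsIso (bt hsq.w) := by
  have h1 := isIso_bc0 hsq (EtCoh.Gm X)
  have h2 := isIso_gmp hsq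
  rw [bt]
  infer_instance

end K832.CmpIso
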