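import Groth.Agent.Dix.K282.RealEnd

/-!
# The edge map of a torus base changed to a real closed field
-/

set_option autoImplicit false
universe u
open CategoryTheory CategoryTheory.Limits AlgebraicGeometry Opposite TensorProduct
open scoped Groth.Agent.Etcore.EtInst
open Groth.Agent.Etcore.EtInst

namespace K832.Rct

open Groth.Agent.Lefpen.H365.FieldPts Groth.Agent.Dix.K282.StkData Groth.Agent.Dix.K282.PMap
open Groth.Agent.Dix.K282.QuadDesc Groth.Agent.Dix.K282.UnitsMA Groth.Agent.Dix.K282.AlgStk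
open Groth.Agent.Dix.K282.TorusStk Groth.Agent.Dix.K282.NormOne Groth.Agent.Dix.K282.RealMap
open Groth.Agent.Dix.K282.GeoVan Groth.Agent.Dix.K282.Assemble Groth.Agent.Dix.K282.Pointed
open Groth.Agent.Dix.K282

attribute [local instance] Algebra.TensorProduct.rightAlgebra

/-- **The edge map in degree three of a torus over `k` base changed to a real closed field `L`.** -/
theorem main (k : Type u) [Field k] (A : Type u) [CommRing A] [HopfAlgebra k A] (hT : SGA3b.IsTorus k A)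
    (L : Type u) [Field L] [CharZero L] [Algebra k L]
    (Ω : Type u) [Field Ω] [Algebra L Ω] [IsSepClosure L Ω] (hk : Module.finrank L Ω = 2) :
    Function.Injective (eH (sp L (L ⊗[k] A)) (EtCoh.Gm (Spec (CommRingCat.of (L ⊗[k] A)))) 3) := by
  let _ : Algebra k Ω := ((algebraMap L Ω).comp (algebraMap k L)).toAlgebra
  have _ : IsScalarTower k L Ω := IsScalarTower.of_algebraMap_eq' rfl
  have h1 : FiniteDimensional L Ω := FiniteDimensional.of_finrank_pos (by omega)
  have h2 : IsGalois L Ω := IsSepClosure.isGalois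
  have h3 : IsAlgClosure L Ω := inferInstance
  have h4 : IsAlgClosed Ω := h3.isAlgClosed
  have h5 : IsSepClosed Ω := inferInstance
  obtain ⟨D, hD⟩ := RealEnd.exists_quad L Ω hk
  obtain ⟨n, ⟨e⟩⟩ := TorusSplit.exists_split k Ω A hT
  let e1 : (L ⊗[k] A) ⊗[L] Ω ≃ₐ[Ω] Ω ⊗[L] (L ⊗[k] A) :=
    (Algebra.TensorProduct.commRight L Ω (L ⊗[k] A)).symm
  let e2 : Ω ⊗[L] (L ⊗[k] A) ≃ₐ[Ω] Ω ⊗[k] A :=
    Algebra.TensorProduct.cancelBaseChange k L Ω Ω A
  let e3 : (L ⊗[k] A) ⊗[L] Ω ≃ₐ[Ω] MonoidAlgebra Ω (Multiplicative (Fin n → ℤ)) :=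
    e1.trans (e2.trans (e : _ ≃ₐ[Ω] _))
  obtain ⟨S⟩ := nonempty_spl (ptA (Ω := Ω) (Bialgebra.counitAlgHom L (L ⊗[k] A))) e3
  exact RealMain.eH_injective_torus D (Bialgebra.counitAlgHom L (L ⊗[k] A)) S hD

end K832.Rct
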