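import Groth.Agent.Dix.K832.Cmp
import Groth.Agent.Dix.K832.Rct
import Groth.Agent.Dix.K109.TorusH3

/-!
# Invariant Brauer classes on tori over fields `k` for which `H³(k, lattice)` is detected by real closures

`main`: if a class of `H³(k, F)`, `F` a lattice, which dies over every algebraic extension `L` of `k` whose separable
closure has degree two is zero, then `Br(T) ⟶ Br(T_Ω)^Γ` is surjective for every torus `T` over `k`.
-/

set_option autoImplicit false
universe u
open CategoryTheory CategoryTheory.Limits AlgebraicGeometry Opposite TensorProduct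
open scoped Groth.Agent.Etcore.EtInst
open Groth.Agent.Etcore.EtInst

namespace K832.RealAsm

open Groth.Agent.Etcore.HpullCalc
open Groth.Agent.Lefpen.H365.FieldPts Groth.Agent.Dix.K282.StkData Groth.Agent.Dix.K282.PMap
open Groth.Agent.Dix.K282.QuadDesc Groth.Agent.Dix.K282.UnitsMA Groth.Agent.Dix.K282.AlgStk
open Groth.Agent.Dix.K282.TorusStk Groth.Agent.Dix.K282.Assemble Groth.Agent.Dix.K282.Pointed
open Groth.Agent.Dix.K282.GeoVan Groth.Agent.CurvesA.EtFieldFin

attribute [local instance] Groth.Agent.S0101.result Algebra.TensorProduct.rightAlgebra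

/-- The absolute Galois group has order two. -/
def RC (L : Type u) [Field L] : Prop :=
  ∀ (Ω : Type u) [Field Ω] [Algebra L Ω] [IsSepClosure L Ω], Module.finrank L Ω = 2

/-- The hypothesis on `H³(k, lattice)`. -/
def H3Real (k : Type u) [Field k] : Prop :=
  ∀ F : EtCoh.Ab (Spec (CommRingCat.of k)), Fin' F →
    (∀ (n : ℕ) (U : (Spec (CommRingCat.of k)).Etale) (s : EtCoh.sect F U), n ≠ 0 → n • s = 0 → s = 0) →
    ∀ x : HH (Spec (CommRingCat.of k)) F 3,
      (∀ (L : Type u) [Field L] [Algebra k L] [Algebra.IsAlgebraic k L], RC L →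
        hp (Spec.map (CommRingCat.ofHom (algebraMap k L))) F 3 x = 0) → x = 0

theorem eH_injective (k : Type u) [Field k] [CharZero k] (Ω : Type u) [Field Ω] [Algebra k Ω] [IsSepClosure k Ω]
    (h3 : H3Real k) (A : Type u) [CommRing A] [HopfAlgebra k A] (hT : SGA3b.IsTorus k A) :
    Function.Injective (eH (sp k A) (EtCoh.Gm (Spec (CommRingCat.of A))) (2 + 1)) := by
  have h1 : Algebra.IsSeparable k Ω := IsSepClosure.separable
  have h2 : IsSepClosed Ω := IsSepClosure.sep_closed k
  obtain ⟨n, ⟨e⟩⟩ := Groth.Agent.Dix.K282.RealEnd.exists_iso (Ω := Ω) A hT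
  obtain ⟨S⟩ := nonempty_spl (ptA (Ω := Ω) (Bialgebra.counitAlgHom k A)) e
  refine eH_injective_of_ker (Bialgebra.counitAlgHom k A) 2 fun y hy => ?_
  obtain ⟨hF, htf⟩ := Groth.Agent.Dix.K109.TorusH3.fin_KK (Bialgebra.counitAlgHom k A) S
  refine h3 _ hF htf y fun L _ _ _ hL => ?_
  have h0 : CharZero L := charZero_of_injective_algebraMap (algebraMap k L).injective
  have hsep : Algebra.IsSeparable k L := inferInstance
  exact K832.Cmp.main L (Bialgebra.counitAlgHom k A) 3 y hy
    (K832.Rct.main k A hT L (SeparableClosure L) (hL (SeparableClosure L)))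

/-- **Invariant Brauer classes on a torus.** -/
theorem main (k : Type u) [Field k] [CharZero k] (Ω : Type u) [Field Ω] [Algebra k Ω] [IsSepClosure k Ω]
    (h3 : H3Real k) (A : Type u) [CommRing A] [HopfAlgebra k A] (hT : SGA3b.IsTorus k A)
    [∀ ⦃Y Z : Scheme.{u}⦄ (g : Y ⟶ Z), PreservesFiniteLimits (EtCoh.pull g)] :
    Dix.brInv Ω (sp k A) ≤ (EtLim.HGmPull (pullback.fst (sp k A) (xi k Ω)) 2).range := by
  have h1 : Algebra.IsSeparable k Ω := IsSepClosure.separable
  have h2 : IsSepClosed Ω := IsSepClosure.sep_closed k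
  obtain ⟨n, ⟨e⟩⟩ := Groth.Agent.Dix.K282.RealEnd.exists_iso (Ω := Ω) A hT
  refine Groth.Agent.Dix.K282.BrLift.brInv_le_range _
    (Groth.Agent.Dix.K282.RealEnd.isZero_R1 (Ω := Ω) e.toRingEquiv) ?_
  rw [edge_injective_iff]
  exact eH_injective k Ω h3 A hT

end K832.RealAsm
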